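import Mathlib
import Cfsg.Prelude.Def_Characters

/-!
# Dade: every finite solvable group embeds in an M-group.  Definitions.
-/

set_option autoImplicit false

namespace Cfsg.Agent.Lib.Helper15.Dade

/-- `M` is an M-group: every irreducible character is induced from a linear character
(a homomorphism into `ℂˣ`) of a subgroup. -/
def IsMG (M : Type*) [Group M] [Fintype M] : Prop :=
  ∀ χ : M → ℂ, Cfsg.IsIrrCharacter M χ →
    ∃ (H : Subgroup M) (lam : ↥H →* ℂˣ), χ = Cfsg.indFun H (fun h => (lam h : ℂ))

/-- The base group of the regular wreath product. -/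
def base (D Q : Type*) [Group D] [Group Q] : Subgroup (RegularWreathProduct D Q) :=
  (RegularWreathProduct.rightHom : RegularWreathProduct D Q →* Q).ker

instance (D Q : Type*) [Group D] [Group Q] : (base D Q).Normal := by
  unfold base; infer_instance

theorem mem_base {D Q : Type*} [Group D] [Group Q] {w : RegularWreathProduct D Q} :
    w ∈ base D Q ↔ w.right = 1 := Iff.rfl

/-- The base group is the direct power. -/
def baseEquiv (D Q : Type*) [Group D] [Group Q] : (Q → D) ≃* ↥(base D Q) where
  toFun β := ⟨⟨β, 1⟩, rfl⟩
  invFun w := w.1.left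
  left_inv _ := rfl
  right_inv w := by
    apply Subtype.ext
    apply RegularWreathProduct.ext
    · rfl
    · exact (mem_base.1 w.2).symm
  map_mul' a b := by
    apply Subtype.ext
    apply RegularWreathProduct.ext
    · funext x; simp
    · simp

@[simp] theorem baseEquiv_coe {D Q : Type*} [Group D] [Group Q] (β : Q → D) :
    ((baseEquiv D Q β : ↥(base D Q)) : RegularWreathProduct D Q) = ⟨β, 1⟩ := rfl

end Cfsg.Agent.Lib.Helper15.Dade
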