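import Cfsg.Agent.Lib.Helper15.Dade.Defs
import Cfsg.Agent.S0858
import Cfsg.Agent.Lib.Helper19.SubTransfer

/-!
# Dade ladder: the rung DICH (normal subgroup of prime index)
-/

set_option autoImplicit false

namespace Cfsg.Agent.Lib.Helper15.Dade

open Cfsg Cfsg.Agent.Lib.Helper19

theorem dichotomy {W : Type*} [Group W] [Fintype W] (B : Subgroup W) [B.Normal] (hp : B.index.Prime)
    (χ : W → ℂ) (hχ : IsIrrCharacter W χ) :
    (∃ θ : ↥B → ℂ, IsIrrCharacter ↥B θ ∧ χ = indFun B θ) ∨
      IsIrrCharacter ↥B (fun b : ↥B => χ b) := by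
  have hsolv : Group.IsSolvable (W ⧸ B) := by
    have hc : IsCyclic (W ⧸ B) :=
      isCyclic_of_prime_card (p := B.index) (hp := ⟨hp⟩) (Subgroup.index_eq_card B).symm
    have : CommGroup (W ⧸ B) := IsCyclic.commGroup
    exact Group.isSolvable_of_comm (fun a b => IsCyclic.commGroup.mul_comm a b)
  have hchief : ∀ (H K L : Subgroup W), B ≤ L → L < K → K ≤ H →
      (∀ h ∈ H, ∀ k ∈ K, h * k * h⁻¹ ∈ K) → (∀ h ∈ H, ∀ l ∈ L, h * l * h⁻¹ ∈ L) →
      (∀ M : Subgroup W, L ≤ M → M ≤ K → (∀ h ∈ H, ∀ m ∈ M, h * m * h⁻¹ ∈ M) → M = L ∨ M = K) →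
      ¬ IsSquare (L.relIndex K) := by
    intro H K L hBL hLK _ _ _ _
    have h1 : L.relIndex K * K.index = L.index := Subgroup.relIndex_mul_index hLK.le
    have h2 : B.relIndex L * L.index = B.index := Subgroup.relIndex_mul_index hBL
    have h3 : L.relIndex K ∣ B.index := by
      rw [← h2, ← h1]
      exact Dvd.dvd.mul_left (Dvd.intro _ rfl) _
    have h4 : L.relIndex K ≠ 1 := by
      intro h
      rw [Subgroup.relIndex_eq_one] at h
      exact absurd h (not_le_of_gt hLK)
    have h5 : L.relIndex K = B.index := ((Nat.dvd_prime hp).1 h3).resolve_left h4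
    rw [h5]
    exact hp.prime.irreducible.not_isSquare
  obtain ⟨H, hBH, ψ, hψ, hind, hres⟩ := Cfsg.Agent.S0858.result B hsolv hchief χ hχ
  have h2 : B.relIndex H * H.index = B.index := Subgroup.relIndex_mul_index hBH
  have h3 : H.index ∣ B.index := Dvd.intro_left _ h2
  rcases (Nat.dvd_prime hp).1 h3 with h4 | h4
  · right
    rw [Subgroup.index_eq_one] at h4
    subst h4
    have hcl : IsClassFunction W (fun g => ψ ⟨g, Subgroup.mem_top g⟩) := by
      intro g h
      have := Cfsg.Agent.Lib.Helper20.isClassFunction_of_isCharacter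
        (Cfsg.Agent.Lib.Helper20.isCharacter_of_isIrrCharacter hψ) ⟨g, Subgroup.mem_top g⟩
        ⟨h, Subgroup.mem_top h⟩
      exact this
    have h5 := indFun_top_restrict hcl
    have h6 : χ = fun g => ψ ⟨g, Subgroup.mem_top g⟩ := by
      rw [← hind, ← h5]
    rw [h6]
    exact hres
  · left
    rw [h4] at h2
    have h5 : B.relIndex H = 1 := by
      have := hp.pos
      exact Nat.eq_of_mul_eq_mul_right this (by rw [h2, one_mul])
    rw [Subgroup.relIndex_eq_one] at h5
    have h6 : H = B := le_antisymm h5 hBH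
    subst h6
    exact ⟨ψ, hψ, hind.symm⟩

end Cfsg.Agent.Lib.Helper15.Dade
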