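import Cfsg.Agent.Lib.Helper15.Dade.Defs
import Cfsg.Agent.Lib.Helper82.Constituent
import Cfsg.Agent.Lib.Helper79.Central

/-!
# Dade ladder: the rung IRR
-/

set_option autoImplicit false

namespace Cfsg.Agent.Lib.Helper15.Dade

open Cfsg Cfsg.Agent.Lib.Helper20 Cfsg.Agent.Lib.Helper82

theorem isIrr_of_restrict {W : Type*} [Group W] [Fintype W] (B : Subgroup W) (χ : W → ℂ)
    (hχ : IsCharacter W χ) (h : IsIrrCharacter ↥B (fun b : ↥B => χ b)) : IsIrrCharacter W χ := by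
  classical
  have : Fintype B := Fintype.ofFinite _
  have h1 : χ 1 ≠ 0 := by
    simpa using Cfsg.Agent.Lib.Helper79.IsIrrCharacter.one_ne_zero h
  obtain ⟨ψ, hψ⟩ := exists_irr_constituent hχ h1
  obtain ⟨ρ, hρ, hsum⟩ := exists_add_of_inner_ne_zero hχ ψ.2 hψ
  have hψB : IsCharacter B (fun b : B => (ψ : W → ℂ) b) :=
    Cfsg.Agent.Lib.Helper20.isCharacter_comp_hom (isIrr_isChar ψ.2) B.subtype
  have hρB : IsCharacter B (fun b : B => ρ b) :=
    Cfsg.Agent.Lib.Helper20.isCharacter_comp_hom hρ B.subtype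
  have hψ1 : (ψ : W → ℂ) 1 ≠ 0 := Cfsg.Agent.Lib.Helper79.IsIrrCharacter.one_ne_zero ψ.2
  obtain ⟨η, hη⟩ := exists_irr_constituent hψB (by simpa using hψ1)
  have hθη : classInner (fun b : B => χ b) (η : B → ℂ) ≠ 0 := by
    have e : (fun b : B => χ b) = (fun b : B => (ψ : W → ℂ) b) + (fun b : B => ρ b) := by
      funext b; rw [hsum]; rfl
    rw [e, classInner_add_left]
    obtain ⟨n1, hn1⟩ := isCharacter_classInner_nat hψB η.2
    obtain ⟨n2, hn2⟩ := isCharacter_classInner_nat hρB η.2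
    rw [hn1] at hη
    rw [hn1, hn2]
    have hn : n1 ≠ 0 := by intro h0; apply hη; simp [h0]
    exact_mod_cast (by omega : n1 + n2 ≠ 0)
  have hθeq : (fun b : B => χ b) = (η : B → ℂ) := by
    by_contra hne
    exact hθη (classInner_irr_ne h η.2 hne)
  have hdeg := degree_le_of_constituent hψB η.2 hη
  have e1 : χ 1 = (charDegree (η : B → ℂ) : ℂ) := by
    rw [← isChar_one_eq (isIrr_isChar η.2), ← hθeq]; rfl
  have e2 : (ψ : W → ℂ) 1 = (charDegree (fun b : B => (ψ : W → ℂ) b) : ℂ) := by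
    rw [← isChar_one_eq hψB]; rfl
  have e3 : ρ 1 = (charDegree ρ : ℂ) := isChar_one_eq hρ
  have e4 : χ 1 = (ψ : W → ℂ) 1 + ρ 1 := by rw [hsum]; rfl
  rw [e1, e2, e3] at e4
  have e5 : charDegree (η : B → ℂ) = charDegree (fun b : B => (ψ : W → ℂ) b) + charDegree ρ := by
    exact_mod_cast e4
  have e6 : charDegree ρ = 0 := by omega
  have e7 : ρ = 0 := isChar_eq_zero_of_one_eq_zero hρ (by rw [e3, e6]; simp)
  rw [hsum, e7, add_zero]
  exact ψ.2

end Cfsg.Agent.Lib.Helper15.Dade
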