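import Mathlib

/-!
# Dade ladder: the rung NPI (a normal subgroup of prime index in a solvable group)
-/

set_option autoImplicit false

namespace Cfsg.Agent.Lib.Helper15.Dade

open scoped commutatorElement

/-- a normal maximal subgroup has prime index -/
theorem npi_prime_index_of_coatom {G : Type*} [Group G] [Finite G] (M : Subgroup G) [M.Normal]
    (hM : IsCoatom M) : M.index.Prime := by
  have hne : M.index ≠ 1 := by
    rw [Ne, Subgroup.index_eq_one]; exact hM.1
  obtain ⟨q, hq, hqd⟩ := Nat.exists_prime_and_dvd hne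
  have : Fact q.Prime := ⟨hq⟩
  rw [Subgroup.index_eq_card] at hqd
  obtain ⟨x, hx⟩ := exists_prime_orderOf_dvd_card' (G := G ⧸ M) q hqd
  obtain ⟨y, rfl⟩ := QuotientGroup.mk_surjective x
  have hyM : y ∉ M := by
    intro h
    rw [(QuotientGroup.eq_one_iff y).2 h, orderOf_one] at hx
    exact hq.one_lt.ne hx
  set L : Subgroup G := (Subgroup.zpowers (y : G ⧸ M)).comap (QuotientGroup.mk' M) with hL
  have hML : M ≤ L := by
    intro m hm
    show ((m : G) : G ⧸ M) ∈ Subgroup.zpowers (y : G ⧸ M)
    rw [(QuotientGroup.eq_one_iff m).2 hm]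
    exact Subgroup.one_mem _
  have hyL : y ∈ L := Subgroup.mem_zpowers (y : G ⧸ M)
  have hLtop : L = ⊤ := hM.2 L (lt_of_le_of_ne hML (fun h => hyM (h ▸ hyL)))
  have htop : Subgroup.zpowers (y : G ⧸ M) = ⊤ := by
    rw [eq_top_iff]
    intro z _
    obtain ⟨w, rfl⟩ := QuotientGroup.mk_surjective z
    have : w ∈ L := by rw [hLtop]; trivial
    exact this
  rw [Subgroup.index_eq_card, ← Subgroup.card_top, ← htop, Nat.card_zpowers, hx]
  exact hq

theorem exists_normal_prime_index {G : Type*} [Group G] [Finite G] [Nontrivial G]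
    (h : Group.IsSolvable G) : ∃ N : Subgroup G, N.Normal ∧ N.index.Prime := by
  have hlt : commutator G < ⊤ := Group.IsSolvable.commutator_lt_top_of_nontrivial G
  rcases eq_top_or_exists_le_coatom (commutator G) with h1 | ⟨M, hM, hle⟩
  · exact absurd h1 hlt.ne
  · have hn : M.Normal := by
      constructor
      intro n hn g
      have h1 : g * n * g⁻¹ = ⁅g, n⁆ * n := by rw [commutatorElement_def]; group
      rw [h1]
      exact M.mul_mem (hle (Subgroup.commutator_mem_commutator (Subgroup.mem_top g)
        (Subgroup.mem_top n))) hn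
    exact ⟨M, hn, npi_prime_index_of_coatom M hM⟩

end Cfsg.Agent.Lib.Helper15.Dade
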