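import Cfsg.Agent.Lib.Helper15.Dade.Defs
import Cfsg.Agent.Lib.Helper19.IndFun
import Cfsg.Agent.Lib.Helper5.Clifford

/-!
# Dade ladder: the rung TR (transport of the M-group property along an isomorphism)
-/

set_option autoImplicit false

namespace Cfsg.Agent.Lib.Helper15.Dade

open Cfsg Cfsg.Agent.Lib.Helper19

theorem isMG_of_equiv {M M' : Type*} [Group M] [Fintype M] [Group M'] [Fintype M'] (e : M ≃* M')
    (h : IsMG M) : IsMG M' := by
  intro χ' hχ'
  obtain ⟨H, lam, hH⟩ := h (χ' ∘ e) (Cfsg.Agent.Lib.Helper5.isIrrCharacter_comp_equiv e hχ')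
  refine ⟨H.map e.toMonoidHom, lam.comp (e.subgroupMap H).symm.toMonoidHom, ?_⟩
  have hext : ∀ y : M, extendByZero (H.map e.toMonoidHom)
      (fun h => ((lam.comp (e.subgroupMap H).symm.toMonoidHom) h : ℂ)) (e y)
        = extendByZero H (fun h => (lam h : ℂ)) y := by
    intro y
    by_cases hy : y ∈ H
    · have hy' : e y ∈ H.map e.toMonoidHom := ⟨y, hy, rfl⟩
      rw [extendByZero_of_mem _ _ hy, extendByZero_of_mem _ _ hy']
      have : (e.subgroupMap H).symm ⟨e y, hy'⟩ = ⟨y, hy⟩ := by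
        rw [MulEquiv.symm_apply_eq]
        rfl
      simp [this]
    · have hy' : e y ∉ H.map e.toMonoidHom := by
        rintro ⟨z, hz, hzy⟩
        exact hy (e.injective hzy ▸ hz)
      rw [extendByZero_of_not_mem _ _ hy, extendByZero_of_not_mem _ _ hy']
  funext g'
  have h1 : χ' g' = (χ' ∘ e) (e.symm g') := by simp
  rw [h1, hH, indFun_apply, indFun_apply, Nat.card_congr (e.subgroupMap H).toEquiv]
  congr 1
  refine Fintype.sum_equiv e.toEquiv _ _ ?_
  intro x
  rw [← hext]
  congr 1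
  simp

end Cfsg.Agent.Lib.Helper15.Dade
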