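import Cfsg.Agent.Lib.Helper15.Dade.Small
import Cfsg.Agent.Lib.Helper15.Dade.Irr
import Cfsg.Agent.Lib.Helper15.Dade.Npi
import Cfsg.Agent.Lib.Helper15.Dade.Tr
import Cfsg.Agent.Lib.Helper15.Dade.Dich
import Cfsg.Agent.Lib.Helper16.DadeEXT
import Cfsg.Agent.Lib.Helper16.DadeINDPI
import Cfsg.Agent.Lib.Helper16.DadeKK
import Cfsg.Agent.Lib.Helper16.DadeINV
import Cfsg.Agent.Lib.Helper16.DadePI
import Cfsg.Agent.Lib.Helper79.LinTwist
import Cfsg.Agent.Lib.Helper19.LinChar

/-!
# Dade: every finite solvable group embeds in an M-group.  Assembly.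
-/

set_option autoImplicit false

namespace Cfsg.Agent.Lib.Helper15.Dade

open Cfsg Cfsg.Agent.Lib.Helper16.Dade

universe u

theorem isMG_pi {ι : Type*} [Fintype ι] {D : Type*} [Group D] [Fintype D] [Fintype (ι → D)]
    (hD : IsMG D) : IsMG (ι → D) := by
  intro θ hθ
  obtain ⟨φ, hφ, hθφ⟩ := irr_pi θ hθ
  choose H lam hH using fun i => hD (φ i) (hφ i)
  obtain ⟨mu, hmu⟩ := indFun_pi H lam
  refine ⟨Subgroup.pi Set.univ H, mu, ?_⟩
  funext x
  rw [hmu, hθφ]
  exact Finset.prod_congr rfl (fun i _ => by rw [hH i])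

theorem index_base {D Q : Type*} [Group D] [Group Q] : (base D Q).index = Nat.card Q := by
  unfold base
  rw [Subgroup.index_ker]
  have hs : Function.Surjective (RegularWreathProduct.rightHom : RegularWreathProduct D Q →* Q) :=
    fun q => ⟨RegularWreathProduct.inl q, by simp⟩
  rw [MonoidHom.range_eq_top.2 hs]
  exact Nat.card_congr Subgroup.topEquiv.toEquiv

theorem isMG_wreath {Q : Type*} [Group Q] [Fintype Q] {D : Type*} [Group D] [Fintype D]
    [Fintype (RegularWreathProduct D Q)] (hQ : (Nat.card Q).Prime) (hD : IsMG D) :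
    IsMG (RegularWreathProduct D Q) := by
  classical
  intro χ hχ
  have hidx : (base D Q).index.Prime := by rw [index_base]; exact hQ
  have hB : IsMG ↥(base D Q) := isMG_of_equiv (baseEquiv D Q) (isMG_pi hD)
  rcases dichotomy (base D Q) hidx χ hχ with ⟨θ, hθ, rfl⟩ | hres
  · exact monomial_of_indFun (base D Q) hB θ hθ
  · have hθ : IsIrrCharacter (Q → D) (fun β => χ ⟨β, 1⟩) :=
      Cfsg.Agent.Lib.Helper5.isIrrCharacter_comp_equiv (baseEquiv D Q) hres
    obtain ⟨φ, hφ, hθφ⟩ := irr_pi _ hθ
    have hcl : IsClassFunction (RegularWreathProduct D Q) χ :=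
      Cfsg.Agent.Lib.Helper20.isClassFunction_of_isCharacter
        (Cfsg.Agent.Lib.Helper20.isCharacter_of_isIrrCharacter hχ)
    have hinv : ∀ (q : Q) (x : Q → D), ∏ i, φ i (x (q⁻¹ * i)) = ∏ i, φ i (x i) := by
      intro q x
      rw [← hθφ x, ← hθφ (fun i => x (q⁻¹ * i))]
      have h1 := hcl ⟨x, 1⟩ (RegularWreathProduct.inl q)
      rw [← h1]
      congr 1
      apply RegularWreathProduct.ext
      · funext i; simp
      · simp
    have hconst := const_of_shift_invariant φ hφ hinv
    obtain ⟨H, lam, hH⟩ := hD (φ 1) (hφ 1)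
    obtain ⟨Ht, mu, hmu⟩ := ext_restrict (Q := Q) H lam
    have hχ'B : ∀ β : Q → D, indFun Ht (fun h => (mu h : ℂ)) ⟨β, 1⟩ = χ ⟨β, 1⟩ := by
      intro β
      rw [hmu, hθφ]
      exact Finset.prod_congr rfl (fun i _ => by rw [hconst i 1, hH])
    have hχ'char : IsCharacter (RegularWreathProduct D Q) (indFun Ht (fun h => (mu h : ℂ))) :=
      Cfsg.Agent.Lib.Helper19.isCharacter_indFun Ht _
        (Cfsg.Agent.Lib.Helper19.isCharacter_homFun mu).1
    have hres' : (fun b : ↥(base D Q) => indFun Ht (fun h => (mu h : ℂ)) b)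
        = fun b : ↥(base D Q) => χ b := by
      funext b
      have hb : (b : RegularWreathProduct D Q) = ⟨b.1.left, 1⟩ := by
        apply RegularWreathProduct.ext
        · rfl
        · exact mem_base.1 b.2
      rw [hb, hχ'B]
    have hχ'irr : IsIrrCharacter (RegularWreathProduct D Q) (indFun Ht (fun h => (mu h : ℂ))) :=
      isIrr_of_restrict (base D Q) _ hχ'char (hres' ▸ hres)
    have hab : ∀ x y : RegularWreathProduct D Q, x * y * x⁻¹ * y⁻¹ ∈ base D Q := by
      intro x y
      rw [mem_base]
      have hc : ∀ a b : Q, a * b = b * a := by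
        have : IsCyclic Q := isCyclic_of_prime_card (p := Nat.card Q) (hp := ⟨hQ⟩) rfl
        intro a b
        exact IsCyclic.commGroup.mul_comm a b
      simp only [RegularWreathProduct.mul_right, RegularWreathProduct.inv_right]
      rw [hc x.right y.right]
      group
    have hne : classInner (fun n : ↥(base D Q) => χ n)
        (fun n : ↥(base D Q) => indFun Ht (fun h => (mu h : ℂ)) n) ≠ 0 := by
      rw [hres', Cfsg.Agent.Lib.Helper20.classInner_irr_self hres]
      exact one_ne_zero
    obtain ⟨a, -, ha⟩ := Cfsg.Agent.Lib.Helper79.exists_linear_twist (base D Q) hab hχ'irr hχ hne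
    obtain ⟨mu', hmu'⟩ := mul_indFun a Ht mu
    exact ⟨Ht, mu', funext fun g => by rw [ha, hmu']⟩

theorem dade_aux (n : ℕ) : ∀ (G : Type u) [Group G] [Finite G], Nat.card G ≤ n → Group.IsSolvable G →
    ∃ (M : Type u) (_ : Group M) (_ : Fintype M), IsMG M ∧ ∃ f : G →* M, Function.Injective f := by
  induction n with
  | zero =>
    intro G _ _ hn _
    exact absurd hn (by have := Nat.card_pos (α := G); omega)
  | succ n ih =>
    intro G _ _ hn hsol
    by_cases hG : Subsingleton G
    · have : Fintype G := Fintype.ofFinite G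
      exact ⟨G, inferInstance, inferInstance, isMG_of_subsingleton, MonoidHom.id G,
        Function.injective_id⟩
    · have hnt : Nontrivial G := not_subsingleton_iff_nontrivial.1 hG
      obtain ⟨N, hN, hp⟩ := exists_normal_prime_index hsol
      have hlt : Nat.card N ≤ n := by
        have h1 := N.card_mul_index
        have h2 := hp.two_le
        have h3 : 0 < Nat.card N := Nat.card_pos
        nlinarith
      have hNsol : Group.IsSolvable N := inferInstance
      obtain ⟨D, _, _, hD, f, hf⟩ := ih N hlt hNsol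
      obtain ⟨F, hF⟩ := exists_embedding N f hf
      have : Fintype (G ⧸ N) := Fintype.ofFinite _
      have : Fintype (RegularWreathProduct D (G ⧸ N)) := Fintype.ofFinite _
      exact ⟨RegularWreathProduct D (G ⧸ N), inferInstance, inferInstance,
        isMG_wreath (by rw [← Subgroup.index_eq_card]; exact hp) hD, F, hF⟩

theorem dade {G : Type u} [Group G] [Finite G] (hsol : Group.IsSolvable G) :
    ∃ (M : Type u) (_ : Group M) (_ : Fintype M), IsMG M ∧ ∃ f : G →* M, Function.Injective f :=
  dade_aux (Nat.card G) G le_rfl hsol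

end Cfsg.Agent.Lib.Helper15.Dade
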