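import Cfsg.Agent.Lib.Helper15.Dade.Defs
import Cfsg.Agent.Lib.Helper19.SubTransfer
import Cfsg.Agent.Lib.Helper82.LinCount

/-!
# Dade ladder: the rungs TWIST, UP, BASE
-/

set_option autoImplicit false

namespace Cfsg.Agent.Lib.Helper15.Dade

open Cfsg Cfsg.Agent.Lib.Helper19

theorem mul_indFun {W : Type*} [Group W] [Fintype W] (a : W →* ℂˣ) (H : Subgroup W) (mu : ↥H →* ℂˣ) :
    ∃ mu' : ↥H →* ℂˣ, ∀ g, (a g : ℂ) * indFun H (fun h => (mu h : ℂ)) g
      = indFun H (fun h => (mu' h : ℂ)) g := by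
  refine ⟨(a.comp H.subtype) * mu, fun g => ?_⟩
  rw [indFun_apply, indFun_apply, mul_left_comm, Finset.mul_sum]
  congr 1
  apply Finset.sum_congr rfl
  intro x _
  by_cases hx : x⁻¹ * g * x ∈ H
  · rw [extendByZero_of_mem H _ hx, extendByZero_of_mem H _ hx]
    have h1 : a (x⁻¹ * g * x) = a g := by
      rw [map_mul, map_mul, map_inv, mul_comm, ← mul_assoc, mul_inv_cancel, one_mul]
    simp [h1]
  · rw [extendByZero_of_not_mem H _ hx, extendByZero_of_not_mem H _ hx, mul_zero]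

theorem monomial_of_indFun {W : Type*} [Group W] [Fintype W] (B : Subgroup W) [Fintype B]
    (hB : IsMG ↥B) (θ : ↥B → ℂ) (hθ : IsIrrCharacter ↥B θ) :
    ∃ (H : Subgroup W) (lam : ↥H →* ℂˣ), indFun B θ = indFun H (fun h => (lam h : ℂ)) := by
  obtain ⟨H', lam', rfl⟩ := hB θ hθ
  refine ⟨H'.map B.subtype,
    lam'.comp (H'.equivMapOfInjective B.subtype B.subtype_injective).symm.toMonoidHom, ?_⟩
  rw [← indFun_liftFun B H' (fun h => (lam' h : ℂ))]
  rfl

theorem isMG_of_subsingleton {M : Type*} [Group M] [Fintype M] [Subsingleton M] : IsMG M := by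
  intro χ hχ
  refine ⟨⊤, 1, ?_⟩
  have h1 : χ 1 = 1 :=
    Cfsg.Agent.Lib.Helper82.isIrr_one_eq_one_of_comm (fun a b => Subsingleton.elim _ _) hχ
  have hχ1 : χ = fun _ => 1 := by
    funext g
    rw [Subsingleton.elim g 1, h1]
  have hcl : IsClassFunction M χ := by
    intro g h
    rw [Subsingleton.elim (h * g * h⁻¹) g]
  have := indFun_top_restrict hcl
  rw [← this]
  congr 1
  funext x
  rw [hχ1]
  simp

end Cfsg.Agent.Lib.Helper15.Dade
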